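import Groth.Agent.Pi1FEt.FiberUnique
import Groth.Agent.Pi1FEt.Components
import Groth.Agent.Pi1Galois.Basic
import Groth.Prelude.Def_PiSp
import Mathlib

/-!
# Topological generation of fundamental groups and components of covers
-/

universe u

open CategoryTheory CategoryTheory.Limits AlgebraicGeometry TopologicalSpace

set_option autoImplicit false
set_option backward.isDefEq.respectTransparency false
set_option linter.style.haveILetI false

noncomputable section

namespace Groth.PiTopGen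

theorem isClopen_connectedComponent_of_noetherian {T : Type*} [TopologicalSpace T] [NoetherianSpace T] (x : T) :
    IsClopen (connectedComponent x) := by
  refine ⟨isClosed_connectedComponent, ?_⟩
  have hfin : Finite (ConnectedComponents T) := by
    have := (NoetherianSpace.finite_irreducibleComponents (α := T)).to_subtype
    refine Finite.of_surjective (fun Z : irreducibleComponents T =>
      ConnectedComponents.mk Z.2.1.nonempty.some) fun c => ?_
    obtain ⟨y, rfl⟩ := ConnectedComponents.surjective_coe c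
    refine ⟨⟨irreducibleComponent y, irreducibleComponent_mem_irreducibleComponents y⟩, ?_⟩
    refine ConnectedComponents.coe_eq_coe'.2 ?_
    exact isIrreducible_irreducibleComponent.isConnected.isPreconnected.subset_connectedComponent
      mem_irreducibleComponent (irreducibleComponent_mem_irreducibleComponents y).1.nonempty.some_mem
  rw [← isClosed_compl_iff]
  have : (connectedComponent x)ᶜ = ⋃ c ∈ {c : ConnectedComponents T | c ≠ ConnectedComponents.mk x},
      ConnectedComponents.mk ⁻¹' {c} := by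
    ext y
    simp only [Set.mem_compl_iff, Set.mem_iUnion, Set.mem_preimage, Set.mem_singleton_iff, Set.mem_setOf_eq,
      exists_prop]
    exact ⟨fun h => ⟨_, fun e => h (ConnectedComponents.coe_eq_coe'.1 e), rfl⟩,
      fun ⟨c, hc, e⟩ h => hc (e ▸ ConnectedComponents.coe_eq_coe'.2 h)⟩
  rw [this]
  refine (Set.toFinite _).isClosed_biUnion fun c _ => ?_
  obtain ⟨y, rfl⟩ := ConnectedComponents.surjective_coe c
  rw [connectedComponents_preimage_singleton]
  exact isClosed_connectedComponent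

variable {X : Scheme.{u}}

theorem fiberObj_map_val {Ω : Type u} [Field Ω] (ξ : Spec (CommRingCat.of Ω) ⟶ X) {A B : FEt.Cat X}
    (f : A ⟶ B) (s : FEt.fiberObj ξ A) : ((FEt.fiber ξ).map f s).1 = s.1 ≫ f.left := rfl

/-- The point of a cover underlying a point of a geometric fibre. -/
def pt {Ω : Type u} [Field Ω] {ξ : Spec (CommRingCat.of Ω) ⟶ X} {A : FEt.Cat X} (s : FEt.fiberObj ξ A) :
    A.left := s.1.base (IsLocalRing.closedPoint Ω)

theorem pt_map {Ω : Type u} [Field Ω] {ξ : Spec (CommRingCat.of Ω) ⟶ X} {A B : FEt.Cat X} (f : A ⟶ B)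
    (s : FEt.fiberObj ξ A) : pt ((FEt.fiber ξ).map f s) = f.left.base (pt s) := rfl

theorem pt_mem {Ω : Type u} [Field Ω] {ξ : Spec (CommRingCat.of Ω) ⟶ X} {A : FEt.Cat X} (s : FEt.fiberObj ξ A) :
    A.hom.base (pt s) = ξ.base (IsLocalRing.closedPoint Ω) := by
  show (s.1 ≫ A.hom).base _ = _
  rw [s.2]
  rfl

theorem hom_app_naturality {Ω Ω' : Type u} [Field Ω] [Field Ω'] {ξ : Spec (CommRingCat.of Ω) ⟶ X}
    {ξ' : Spec (CommRingCat.of Ω') ⟶ X} (p : FEt.fiber ξ ⟶ FEt.fiber ξ') {A B : FEt.Cat X} (f : A ⟶ B)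
    (s : FEt.fiberObj ξ A) : p.app B ((FEt.fiber ξ).map f s) = (FEt.fiber ξ').map f (p.app A s) :=
  ConcreteCategory.congr_hom (p.naturality f) s

/-- The open-closed subcover given by the component of a point. -/
def compCover [IsLocallyNoetherian X] [CompactSpace X] (A : FEt.Cat X) (a : A.left) : FEt.Cat X :=
  let g : A.left ⟶ X := A.hom
  haveI : IsFinite g := A.prop.1
  haveI : Etale g := A.prop.2
  haveI : IsLocallyNoetherian A.left := LocallyOfFiniteType.isLocallyNoetherian g
  haveI : CompactSpace ↥A.left := QuasiCompact.compactSpace_of_compactSpace g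
  haveI : IsNoetherian A.left := {}
  MorphismProperty.Over.mk ⊤
    (Scheme.Opens.ι (⟨connectedComponent a, (isClopen_connectedComponent_of_noetherian a).2⟩ : A.left.Opens) ≫ A.hom) <| by
    have : IsClosedImmersion (Scheme.Opens.ι (⟨connectedComponent a,
        (isClopen_connectedComponent_of_noetherian a).2⟩ : A.left.Opens)) :=
      .of_isPreimmersion _ (by rw [Scheme.Opens.range_ι]; exact isClosed_connectedComponent)
    exact ⟨inferInstance, inferInstance⟩

/-- The inclusion of a component. -/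
def compι [IsLocallyNoetherian X] [CompactSpace X] (A : FEt.Cat X) (a : A.left) : compCover A a ⟶ A :=
  MorphismProperty.Over.homMk (Scheme.Opens.ι _) rfl

instance [IsLocallyNoetherian X] [CompactSpace X] (A : FEt.Cat X) (a : A.left) :
    ConnectedSpace ↥(compCover A a).left :=
  Subtype.connectedSpace isConnected_connectedComponent

theorem range_compι [IsLocallyNoetherian X] [CompactSpace X] (A : FEt.Cat X) (a : A.left) :
    Set.range (compι A a).left.base = connectedComponent a :=
  Scheme.Opens.range_ι _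

theorem exists_lift_compCover [IsLocallyNoetherian X] [CompactSpace X] {Ω : Type u} [Field Ω]
    {ξ : Spec (CommRingCat.of Ω) ⟶ X} {A : FEt.Cat X} (a : A.left) (s : FEt.fiberObj ξ A)
    (h : pt s ∈ connectedComponent a) : ∃ t : FEt.fiberObj ξ (compCover A a), (FEt.fiber ξ).map (compι A a) t = s := by
  haveI : IsOpenImmersion (compι A a).left := inferInstanceAs (IsOpenImmersion (Scheme.Opens.ι _))
  have hr : Set.range s.1.base ⊆ Set.range (compι A a).left.base := by
    rintro _ ⟨z, rfl⟩
    rw [range_compι, Subsingleton.elim z (IsLocalRing.closedPoint Ω)]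
    exact h
  refine ⟨⟨IsOpenImmersion.lift (compι A a).left s.1 hr, ?_⟩, Subtype.ext (IsOpenImmersion.lift_fac _ _ _)⟩
  show _ ≫ (compι A a).left ≫ A.hom = ξ
  rw [IsOpenImmersion.lift_fac_assoc, s.2]

theorem pt_mem_connectedComponent [IsLocallyNoetherian X] [CompactSpace X] {Ω : Type u} [Field Ω]
    {ξ : Spec (CommRingCat.of Ω) ⟶ X} {A : FEt.Cat X} (a : A.left) (t : FEt.fiberObj ξ (compCover A a)) :
    pt ((FEt.fiber ξ).map (compι A a) t) ∈ connectedComponent a :=
  (range_compι A a).le ⟨_, rfl⟩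

/-- Paths preserve components of covers. -/
theorem connectedComponent_pt_hom [IsLocallyNoetherian X] [CompactSpace X] {Ω Ω' : Type u} [Field Ω] [Field Ω']
    {ξ : Spec (CommRingCat.of Ω) ⟶ X} {ξ' : Spec (CommRingCat.of Ω') ⟶ X}
    (p : FEt.fiber ξ ⟶ FEt.fiber ξ') {A : FEt.Cat X} (s : FEt.fiberObj ξ A) :
    connectedComponent (pt (p.app A s)) = connectedComponent (pt s) := by
  obtain ⟨t, ht⟩ := exists_lift_compCover (pt s) s mem_connectedComponent
  rw [← ht, hom_app_naturality]
  exact (connectedComponent_eq (pt_mem_connectedComponent (pt s) _)).symm.trans (congrArg connectedComponent (congrArg pt ht)).symm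

variable {Ω : Type u} [Field Ω] [IsAlgClosed Ω] (ξ : Spec (CommRingCat.of Ω) ⟶ X)

theorem exists_fiberObj (A : FEt.Cat X) (a : A.left) (h : A.hom.base a = ξ.base (IsLocalRing.closedPoint Ω)) :
    ∃ s : FEt.fiberObj ξ A, pt s = a := by
  haveI : IsFinite A.hom := A.prop.1
  obtain ⟨z, hz1, hz2⟩ := Scheme.Pullback.exists_preimage_pullback (f := A.hom) (g := ξ) a _ h
  let q := pullback.snd A.hom ξ
  haveI : IsFinite q := MorphismProperty.pullback_snd _ _ inferInstance
  obtain ⟨sec, hsec, hpt⟩ : ∃ sec : Spec (CommRingCat.of Ω) ⟶ pullback A.hom ξ,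
      sec ≫ q = 𝟙 _ ∧ sec.base (IsLocalRing.closedPoint Ω) = z := by
    haveI : IsAffine (pullback A.hom ξ) := isAffine_of_isAffineHom q
    obtain ⟨φ, hφ⟩ := Spec.map_surjective ((pullback A.hom ξ).isoSpec.inv ≫ q)
    have hfin : φ.hom.Finite := (IsFinite.SpecMap_iff φ).1 (by rw [hφ]; infer_instance)
    letI := φ.hom.toAlgebra
    haveI : Module.Finite Ω Γ(pullback A.hom ξ, ⊤) := hfin
    haveI : IsArtinianRing Γ(pullback A.hom ξ, ⊤) := IsArtinianRing.of_finite Ω _
    let P : PrimeSpectrum Γ(pullback A.hom ξ, ⊤) := (pullback A.hom ξ).isoSpec.hom.base z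
    haveI : P.asIdeal.IsMaximal := IsArtinianRing.isMaximal_of_isPrime P.asIdeal
    letI : Field (Γ(pullback A.hom ξ, ⊤) ⧸ P.asIdeal) := Ideal.Quotient.field _
    haveI : Module.Finite Ω (Γ(pullback A.hom ξ, ⊤) ⧸ P.asIdeal) :=
      Module.Finite.of_surjective (Ideal.Quotient.mkₐ Ω P.asIdeal).toLinearMap Ideal.Quotient.mk_surjective
    have hbij := IsAlgClosed.algebraMap_bijective_of_isIntegral (k := Ω) (K := Γ(pullback A.hom ξ, ⊤) ⧸ P.asIdeal)
    let e := RingEquiv.ofBijective (algebraMap Ω (Γ(pullback A.hom ξ, ⊤) ⧸ P.asIdeal)) hbij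
    let ψ : Γ(pullback A.hom ξ, ⊤) →+* Ω := e.symm.toRingHom.comp (Ideal.Quotient.mk P.asIdeal)
    refine ⟨Spec.map (CommRingCat.ofHom ψ) ≫ (pullback A.hom ξ).isoSpec.inv, ?_, ?_⟩
    · rw [Category.assoc, ← hφ, ← Spec.map_comp, ← Spec.map_id]
      congr 1
      ext c
      exact e.symm_apply_apply c
    · have : (Spec.map (CommRingCat.ofHom ψ)).base (IsLocalRing.closedPoint Ω) = P := by
        refine PrimeSpectrum.ext ?_
        show Ideal.comap ψ (IsLocalRing.maximalIdeal Ω) = P.asIdeal
        rw [IsLocalRing.maximalIdeal_eq_bot, ← RingHom.ker_eq_comap_bot,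
          RingHom.ker_comp_of_injective _ e.symm.injective, Ideal.mk_ker]
      rw [Scheme.Hom.comp_apply, this]
      show ((pullback A.hom ξ).isoSpec.hom ≫ (pullback A.hom ξ).isoSpec.inv).base z = z
      rw [Iso.hom_inv_id]; rfl
  refine ⟨⟨sec ≫ pullback.fst A.hom ξ, ?_⟩, ?_⟩
  · rw [Category.assoc, pullback.condition, reassoc_of% hsec]
  · show (sec ≫ pullback.fst A.hom ξ).base _ = a
    rw [Scheme.Hom.comp_apply, hpt, hz1]

/-- Connected objects have transitive fibres, for any functor isomorphic to a fibre functor. -/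
theorem exists_aut_eq {C : Type (u + 1)} [Category.{u} C] [GaloisCategory C] (Φ : C ⥤ FintypeCat.{u})
    [PreGaloisCategory.FiberFunctor Φ] {G : C ⥤ Type u} (e : Φ ⋙ FintypeCat.incl ≅ G) (A : C)
    [PreGaloisCategory.IsConnected A] (s t : G.obj A) : ∃ σ : Aut G, σ.hom.app A s = t := by
  let s' : (Φ.obj A : Type u) := e.inv.app A s
  let t' : (Φ.obj A : Type u) := e.inv.app A t
  obtain ⟨σ, hσ⟩ := MulAction.exists_smul_eq (Aut Φ) s' t'
  refine ⟨e.symm ≪≫ Functor.isoWhiskerRight σ _ ≪≫ e, ?_⟩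
  show e.hom.app A (σ • s' : (Φ.obj A : Type u)) = t
  rw [hσ]
  exact ConcreteCategory.congr_hom (e.inv_hom_id_app A) t

/-- Connected covers are connected objects. -/
theorem isConnected_of_connectedSpace [ConnectedSpace X] (A : FEt.Cat X) [ConnectedSpace A.left]
    (Φ : FEt.Cat X ⥤ FintypeCat.{u}) [PreGaloisCategory (FEt.Cat X)] [PreGaloisCategory.FiberFunctor Φ]
    (e : Φ ⋙ FintypeCat.incl ≅ FEt.fiber ξ) : PreGaloisCategory.IsConnected A := by
  obtain ⟨y⟩ := (inferInstance : Nonempty ↥A.left)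
  let g : A.left ⟶ X := A.hom
  haveI : IsFinite g := A.prop.1
  haveI : Etale g := A.prop.2
  have hsurj : Set.range g.base = Set.univ :=
    IsClopen.eq_univ ⟨g.isClosedMap.isClosed_range, g.isOpenMap.isOpen_range⟩ ⟨_, y, rfl⟩
  obtain ⟨a, ha⟩ := hsurj.ge (Set.mem_univ (ξ.base (IsLocalRing.closedPoint Ω)))
  obtain ⟨s, -⟩ := exists_fiberObj ξ A a ha
  refine ⟨fun hi => ?_, fun Y i _ hY => ?_⟩
  · haveI := (PreGaloisCategory.initial_iff_fiber_empty Φ A).1 ⟨hi⟩
    exact IsEmpty.false (show (Φ.obj A : Type u) from e.inv.app A s)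
  · haveI := Pi1FEt.mono_left i
    haveI := Pi1FEt.isFinite_left i
    haveI := Pi1FEt.etale_left i
    haveI : IsOpenImmersion i.left := IsOpenImmersion.of_flat_of_mono _
    have hne : Nonempty ↥Y.left := by
      by_contra hemp
      exact hY ((PreGaloisCategory.initial_iff_fiber_empty Φ Y).2 ⟨fun z => hemp ⟨pt (e.hom.app Y z)⟩⟩).some
    have huniv : Set.range i.left.base = Set.univ :=
      IsClopen.eq_univ ⟨i.left.isClosedMap.isClosed_range, i.left.isOpenEmbedding.isOpen_range⟩
        (Set.range_nonempty _)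
    haveI : Surjective i.left := ⟨Set.range_eq_univ.1 huniv⟩
    haveI : IsIso i.left := (isIso_iff_isOpenImmersion_and_surjective _).2 ⟨inferInstance, inferInstance⟩
    haveI : IsIso ((MorphismProperty.Over.forget FEt.prop ⊤ X ⋙ Over.forget X).map i) := ‹IsIso i.left›
    exact isIso_of_reflects_iso i (MorphismProperty.Over.forget FEt.prop ⊤ X ⋙ Over.forget X)

/-- The fundamental group is transitive on the fibres of connected covers. -/
theorem exists_smul_eq [ConnectedSpace X] (A : FEt.Cat X) [ConnectedSpace A.left] (s t : FEt.fiberObj ξ A) :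
    ∃ σ : FEt.piOne X ξ, σ.hom.app A s = t := by
  letI := Pi1FEt.preGaloisCategory X
  haveI := Pi1FEt.fiberFunctor_fiberFun ξ
  haveI : GaloisCategory (FEt.Cat X) := ⟨Pi1FEt.fiberFun ξ, ⟨inferInstance⟩⟩
  haveI := isConnected_of_connectedSpace ξ A (Pi1FEt.fiberFun ξ) (Pi1FEt.fiberFunIso ξ)
  exact exists_aut_eq (Pi1FEt.fiberFun ξ) (Pi1FEt.fiberFunIso ξ) A s t

/-- Translation of a fibre by an element of a dense subgroup. -/
theorem mem_of_topGenerates {F : Set (FEt.piOne X ξ)} (hF : PiSp.TopGenerates F) (A : FEt.Cat X)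
    (O : Set (FEt.fiberObj ξ A)) (hO : ∀ γ ∈ Subgroup.closure F, ∀ s ∈ O, γ.hom.app A s ∈ O)
    (σ : FEt.piOne X ξ) {s : FEt.fiberObj ξ A} (hs : s ∈ O) : σ.hom.app A s ∈ O := by
  have hopen : IsOpen {τ : FEt.piOne X ξ | τ.hom.app A s = σ.hom.app A s} := by
    letI : ∀ Z : FEt.Cat X, TopologicalSpace (FEt.fiberObj ξ Z → FEt.fiberObj ξ Z) := fun _ => ⊥
    haveI : DiscreteTopology (FEt.fiberObj ξ A → FEt.fiberObj ξ A) := ⟨rfl⟩
    let ev : FEt.piOne X ξ → (∀ Z : FEt.Cat X, FEt.fiberObj ξ Z → FEt.fiberObj ξ Z) :=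
      fun τ Z z => τ.hom.app Z z
    have hev : Continuous ev := continuous_induced_dom
    exact (isOpen_discrete {w : FEt.fiberObj ξ A → FEt.fiberObj ξ A | w s = σ.hom.app A s}).preimage
      ((continuous_apply A).comp hev)
  obtain ⟨γ, hγF, hγ⟩ := hF.exists_mem_open hopen ⟨σ, rfl⟩
  rw [← (show γ.hom.app A s = σ.hom.app A s from hγ)]
  exact hO γ hγF s hs

end Groth.PiTopGen
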